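import Mathlib
import Cfsg.Prelude.Def_LieExceptional

/-!
(B, N)-pairs: Bruhat decomposition, uniqueness, the exchange condition, parabolic subgroups.
-/

set_option autoImplicit false

namespace CfsgLib.BNPair

open scoped Pointwise

variable {G : Type*} [Group G] (P : Cfsg.BNPair G)

/-- `B ∩ N` inside `N`. -/
abbrev hSub : Subgroup P.N := (P.B ⊓ P.N).subgroupOf P.N

theorem mem_hSub {n : P.N} : n ∈ hSub P ↔ (n : G) ∈ P.B := by
  simp [hSub, Subgroup.mem_subgroupOf]

instance hSub_normal : (hSub P).Normal :=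
  ⟨fun n hn g => (mem_hSub P).2 (P.conj_mem g.1 g.2 n.1 ⟨(mem_hSub P).1 hn, n.2⟩)⟩

/-- The Weyl group of the pair. -/
abbrev Weyl : Type _ := P.N ⧸ hSub P

/-- The class of an element of `N`. -/
abbrev wcl (n : P.N) : Weyl P := QuotientGroup.mk n

/-- The simple generators of the Weyl group. -/
def simp' (s : P.S) : Weyl P := wcl P ⟨s.1, P.subset s.2⟩

theorem wcl_eq_iff {n m : P.N} : wcl P n = wcl P m ↔ (n : G)⁻¹ * m ∈ P.B := by
  rw [wcl, QuotientGroup.eq, mem_hSub]; rfl

theorem simp_mul_self (s : P.S) : simp' P s * simp' P s = 1 :=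
  (QuotientGroup.eq_one_iff _).2 ((mem_hSub P).2 (P.sq_mem s.1 s.2))

theorem simp_inv (s : P.S) : (simp' P s)⁻¹ = simp' P s := inv_eq_of_mul_eq_one_right (simp_mul_self P s)

theorem simp_mul_cancel (s : P.S) (w : Weyl P) : simp' P s * (simp' P s * w) = w := by
  rw [← mul_assoc, simp_mul_self, one_mul]

theorem not_mem_B (s : P.S) : (s : G) ∉ P.B := by
  intro h
  apply P.conj_ne s.1 s.2
  ext g
  refine ⟨?_, fun hg => ⟨s.1⁻¹ * g * s.1⁻¹, P.B.mul_mem (P.B.mul_mem (P.B.inv_mem h) hg) (P.B.inv_mem h), ?_⟩⟩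
  · rintro ⟨b, hb, rfl⟩
    exact P.B.mul_mem (P.B.mul_mem h hb) h
  · show s.1 * (s.1⁻¹ * g * s.1⁻¹) * s.1 = g
    group

theorem simp_ne_one (s : P.S) : simp' P s ≠ 1 := fun h =>
  not_mem_B P s ((mem_hSub P).1 ((QuotientGroup.eq_one_iff _).1 h))

theorem simp_injective : Function.Injective (simp' P) := fun s t h =>
  Subtype.ext (P.inj s.1 s.2 t.1 t.2 ((wcl_eq_iff P).1 h))

/-! ### Words and length -/

/-- The product of a word. -/
def prodW (L : List P.S) : Weyl P := (L.map (simp' P)).prod

@[simp] theorem prodW_nil : prodW P [] = 1 := rfl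

@[simp] theorem prodW_cons (s : P.S) (L : List P.S) : prodW P (s :: L) = simp' P s * prodW P L :=
  List.prod_cons

theorem prodW_append (L L' : List P.S) : prodW P (L ++ L') = prodW P L * prodW P L' := by
  simp [prodW]

theorem prodW_reverse (L : List P.S) : prodW P L.reverse = (prodW P L)⁻¹ := by
  induction L with
  | nil => simp
  | cons s L ih => simp [prodW_append, ih, simp_inv]

theorem exists_word (w : Weyl P) : ∃ L : List P.S, prodW P L = w := by
  induction w using QuotientGroup.induction_on with | H n => ?_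
  let K : Subgroup P.N :=
    { carrier := {n | ∃ L : List P.S, prodW P L = wcl P n}
      one_mem' := ⟨[], rfl⟩
      mul_mem' := fun {a b} ⟨L, hL⟩ ⟨L', hL'⟩ => ⟨L ++ L', by rw [prodW_append, hL, hL']; rfl⟩
      inv_mem' := fun {a} ⟨L, hL⟩ => ⟨L.reverse, by rw [prodW_reverse, hL]; rfl⟩ }
  have h : P.N ≤ K.map P.N.subtype := by
    conv_lhs => rw [← P.closure_sup]
    refine sup_le ((Subgroup.closure_le _).2 fun s hs => ?_) fun t ht => ?_
    · exact ⟨⟨s, P.subset hs⟩, ⟨[⟨s, hs⟩], by simp [simp']⟩, rfl⟩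
    · exact ⟨⟨t, ht.2⟩, ⟨[], ((QuotientGroup.eq_one_iff _).2 ((mem_hSub P).2 ht.1)).symm⟩, rfl⟩
  obtain ⟨m, hm, hmn⟩ := h n.2
  have : m = n := Subtype.ext hmn
  exact this ▸ hm

open Classical in
/-- The length function. -/
noncomputable def len (w : Weyl P) : ℕ :=
  Nat.find (p := fun k => ∃ L : List P.S, L.length = k ∧ prodW P L = w)
    (let ⟨L, hL⟩ := exists_word P w; ⟨_, L, rfl, hL⟩)

theorem exists_reduced (w : Weyl P) : ∃ L : List P.S, L.length = len P w ∧ prodW P L = w := by
  classical
  exact Nat.find_spec (p := fun k => ∃ L : List P.S, L.length = k ∧ prodW P L = w) _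

theorem len_le (L : List P.S) : len P (prodW P L) ≤ L.length := by
  classical
  exact Nat.find_min' _ ⟨L, rfl, rfl⟩

theorem len_eq_zero {w : Weyl P} (h : len P w = 0) : w = 1 := by
  obtain ⟨L, hL, hw⟩ := exists_reduced P w
  rw [h, List.length_eq_zero_iff] at hL
  rw [← hw, hL]; rfl

theorem len_one : len P (1 : Weyl P) = 0 := Nat.le_zero.1 (len_le P [])

theorem len_simp_mul_le (s : P.S) (w : Weyl P) : len P (simp' P s * w) ≤ len P w + 1 := by
  obtain ⟨L, hL, hw⟩ := exists_reduced P w
  have := len_le P (s :: L)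
  rw [prodW_cons, hw, List.length_cons, hL] at this
  exact this

theorem len_le_simp_mul (s : P.S) (w : Weyl P) : len P w ≤ len P (simp' P s * w) + 1 := by
  have := len_simp_mul_le P s (simp' P s * w)
  rwa [simp_mul_cancel] at this

theorem len_simp (s : P.S) : len P (simp' P s) = 1 := by
  have h1 := len_simp_mul_le P s 1
  rw [mul_one, len_one] at h1
  rcases Nat.le_one_iff_eq_zero_or_eq_one.1 h1 with h | h
  · exact absurd (len_eq_zero P h) (simp_ne_one P s)
  · exact h

theorem exists_head {w : Weyl P} {k : ℕ} (h : len P w = k + 1) :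
    ∃ (s : P.S) (v : Weyl P), len P v = k ∧ w = simp' P s * v := by
  obtain ⟨L, hL, hw⟩ := exists_reduced P w
  match L with
  | [] => simp [h] at hL
  | s :: L =>
    refine ⟨s, prodW P L, ?_, by rw [← hw, prodW_cons]⟩
    rw [List.length_cons, h] at hL
    have h1 := len_le P L
    have h2 := len_simp_mul_le P s (prodW P L)
    rw [prodW_cons] at hw
    rw [hw, h] at h2
    omega

/-! ### Cells -/

/-- The double coset of a class. -/
def cell (w : Weyl P) : Set G :=
  {g | ∃ n : P.N, wcl P n = w ∧ ∃ b ∈ P.B, ∃ b' ∈ P.B, g = b * n * b'}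

theorem cell_wcl (n : P.N) : cell P (wcl P n) = DoubleCoset.doubleCoset (n : G) (P.B : Set G) P.B := by
  ext g
  rw [DoubleCoset.mem_doubleCoset]
  constructor
  · rintro ⟨m, hm, b, hb, b', hb', rfl⟩
    refine ⟨b, hb, (n : G)⁻¹ * m * b', P.B.mul_mem ((wcl_eq_iff P).1 hm.symm) hb', ?_⟩
    group
  · rintro ⟨b, hb, b', hb', rfl⟩
    exact ⟨n, rfl, b, hb, b', hb', rfl⟩

theorem mem_cell_self (n : P.N) : (n : G) ∈ cell P (wcl P n) :=
  ⟨n, rfl, 1, one_mem _, 1, one_mem _, by group⟩

theorem mul_mem_cell {w : Weyl P} {g b b' : G} (hb : b ∈ P.B) (hg : g ∈ cell P w) (hb' : b' ∈ P.B) :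
    b * g * b' ∈ cell P w := by
  obtain ⟨n, hn, c, hc, c', hc', rfl⟩ := hg
  exact ⟨n, hn, b * c, mul_mem hb hc, c' * b', mul_mem hc' hb', by group⟩

theorem mem_cell_one {g : G} : g ∈ cell P 1 ↔ g ∈ P.B := by
  constructor
  · rintro ⟨n, hn, c, hc, c', hc', rfl⟩
    exact mul_mem (mul_mem hc ((mem_hSub P).1 ((QuotientGroup.eq_one_iff _).1 hn))) hc'
  · exact fun hg => ⟨1, rfl, g, hg, 1, one_mem _, by simp⟩

theorem inv_mem_cell {w : Weyl P} {g : G} (hg : g ∈ cell P w) : g⁻¹ ∈ cell P w⁻¹ := by
  obtain ⟨n, hn, c, hc, c', hc', rfl⟩ := hg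
  exact ⟨n⁻¹, by rw [← hn]; rfl, c'⁻¹, inv_mem hc', c⁻¹, inv_mem hc, by simp [mul_assoc]⟩

theorem cell_eq_of_mem {w v : Weyl P} {g : G} (hw : g ∈ cell P w) (hv : g ∈ cell P v) : cell P w = cell P v := by
  induction w using QuotientGroup.induction_on with | H n => ?_
  induction v using QuotientGroup.induction_on with | H m => ?_
  rw [cell_wcl] at hw ⊢
  rw [cell_wcl] at hv ⊢
  rw [← DoubleCoset.doubleCoset_eq_of_mem hw, ← DoubleCoset.doubleCoset_eq_of_mem hv]

theorem simp_mem_cell (s : P.S) : (s : G) ∈ cell P (simp' P s) := mem_cell_self P _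

/-- Left multiplication by `B s`. -/
theorem simp_mul_cases (s : P.S) {b : G} (hb : b ∈ P.B) {w : Weyl P} {g : G} (hg : g ∈ cell P w) :
    (s : G) * b * g ∈ cell P (simp' P s * w) ∨ (s : G) * b * g ∈ cell P w := by
  obtain ⟨n, hn, c, hc, c', hc', rfl⟩ := hg
  have e : (s : G) * b * (c * n * c') = 1 * ((s : G) * (b * c) * n) * c' := by group
  rw [e]
  rcases P.mul_mem_union s.1 s.2 n.1 n.2 (b * c) (mul_mem hb hc) with h | h
  · refine Or.inl (mul_mem_cell P (one_mem _) ?_ hc')
    have hw : simp' P s * w = wcl P (⟨s.1, P.subset s.2⟩ * n) := by rw [← hn]; rfl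
    rw [hw, cell_wcl]
    exact h
  · refine Or.inr (mul_mem_cell P (one_mem _) ?_ hc')
    rw [← hn, cell_wcl]
    exact h

/-- Left multiplication by any element of the cell of `s`. -/
theorem cell_simp_mul_cases (s : P.S) {h : G} (hh : h ∈ cell P (simp' P s)) {w : Weyl P} {g : G}
    (hg : g ∈ cell P w) : h * g ∈ cell P (simp' P s * w) ∨ h * g ∈ cell P w := by
  rw [simp', cell_wcl, DoubleCoset.mem_doubleCoset] at hh
  obtain ⟨c, hc, c', hc', rfl⟩ := hh
  have e : c * (s : G) * c' * g = c * ((s : G) * c' * g) * 1 := by group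
  rw [e]
  rcases simp_mul_cases P s hc' hg with h | h
  · exact Or.inl (mul_mem_cell P hc h (one_mem _))
  · exact Or.inr (mul_mem_cell P hc h (one_mem _))

/-- Right multiplication by any element of the cell of `s`. -/
theorem mul_cell_simp_cases (s : P.S) {h : G} (hh : h ∈ cell P (simp' P s)) {w : Weyl P} {g : G}
    (hg : g ∈ cell P w) : g * h ∈ cell P (w * simp' P s) ∨ g * h ∈ cell P w := by
  have hh' := inv_mem_cell P hh
  rw [simp_inv] at hh'
  rcases cell_simp_mul_cases P s hh' (inv_mem_cell P hg) with h1 | h1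
  · refine Or.inl ?_
    have := inv_mem_cell P h1
    simpa [mul_inv_rev, simp_inv] using this
  · refine Or.inr ?_
    have := inv_mem_cell P h1
    simpa [mul_inv_rev, simp_inv] using this

theorem simp_B_mem_cell (s : P.S) {b : G} (hb : b ∈ P.B) : (s : G) * b ∈ cell P (simp' P s) := by
  simpa using mul_mem_cell P (one_mem _) (simp_mem_cell P s) hb

/-- Bruhat decomposition relative to a subgroup generated by some generators. -/
theorem exists_cell_of_mem {J : Set G} (hJ : J ⊆ P.S) {g : G} (hg : g ∈ P.parabolic J) :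
    ∃ n : P.N, (n : G) ∈ Subgroup.closure J ∧ g ∈ cell P (wcl P n) := by
  let X : Set G := {g | ∃ n : P.N, (n : G) ∈ Subgroup.closure J ∧ g ∈ cell P (wcl P n)}
  have hB : ∀ b ∈ P.B, ∀ x ∈ X, b * x ∈ X := by
    rintro b hb x ⟨n, hn, hx⟩
    exact ⟨n, hn, by simpa using mul_mem_cell P hb hx (one_mem _)⟩
  have hs : ∀ s ∈ J, ∀ x ∈ X, s * x ∈ X ∧ s⁻¹ * x ∈ X := by
    intro s hs x hx
    have key : ∀ x ∈ X, s * x ∈ X := by
      rintro x ⟨n, hn, hx⟩
      rcases cell_simp_mul_cases P ⟨s, hJ hs⟩ (simp_mem_cell P ⟨s, hJ hs⟩) hx with h | h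
      · refine ⟨(⟨s, P.subset (hJ hs)⟩ : P.N) * n, ?_, h⟩
        exact mul_mem (Subgroup.subset_closure hs) hn
      · exact ⟨n, hn, h⟩
    refine ⟨key x hx, ?_⟩
    have e : s⁻¹ * x = s * ((s * s)⁻¹ * x) := by group
    rw [e]
    exact key _ (hB _ (inv_mem (P.sq_mem s (hJ hs))) x hx)
  have h1 : ∀ g ∈ P.parabolic J, ∀ x ∈ X, g * x ∈ X := by
    intro g hg
    rw [Cfsg.BNPair.parabolic, ← Subgroup.closure_eq P.B, ← Subgroup.closure_union] at hg
    induction hg using Subgroup.closure_induction_left with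
    | one => simp
    | mul_left y hy z _ ih =>
      intro x hx
      rw [mul_assoc]
      rcases hy with hy | hy
      · exact hB y hy _ (ih x hx)
      · exact (hs y hy _ (ih x hx)).1
    | inv_mul_cancel y hy z _ ih =>
      intro x hx
      rw [mul_assoc]
      rcases hy with hy | hy
      · exact hB y⁻¹ (inv_mem hy) _ (ih x hx)
      · exact (hs y hy _ (ih x hx)).2
  have h2 := h1 g hg 1 ⟨1, one_mem _, (mem_cell_one P).2 (one_mem _)⟩
  rw [mul_one] at h2
  exact h2

theorem parabolic_S : P.parabolic P.S = ⊤ := by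
  refine eq_top_iff.2 ?_
  rw [← P.sup_eq_top, Cfsg.BNPair.parabolic]
  refine sup_le le_sup_left ?_
  conv_lhs => rw [← P.closure_sup]
  exact sup_le le_sup_right (inf_le_left.trans le_sup_left)

theorem exists_cell (g : G) : ∃ w : Weyl P, g ∈ cell P w := by
  obtain ⟨n, -, hn⟩ := exists_cell_of_mem P subset_rfl (parabolic_S P ▸ Subgroup.mem_top g)
  exact ⟨_, hn⟩

/-- Uniqueness in the Bruhat decomposition. -/
theorem cell_injective {w v : Weyl P} {g : G} (hw : g ∈ cell P w) (hv : g ∈ cell P v) : w = v := by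
  suffices ∀ k, ∀ w v : Weyl P, len P w = k → k ≤ len P v → cell P w = cell P v → w = v by
    rcases le_total (len P w) (len P v) with h | h
    · exact this _ w v rfl h (cell_eq_of_mem P hw hv)
    · exact (this _ v w rfl h (cell_eq_of_mem P hv hw)).symm
  intro k
  induction k with
  | zero =>
    intro w v hw _ he
    have hw1 := len_eq_zero P hw
    induction v using QuotientGroup.induction_on with | H n => ?_
    have h := mem_cell_self P n
    rw [wcl, ← he, hw1, mem_cell_one] at h
    rw [hw1]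
    exact ((QuotientGroup.eq_one_iff _).2 ((mem_hSub P).2 h)).symm
  | succ k ih =>
    intro w v hw hv he
    obtain ⟨s, u, hu, rfl⟩ := exists_head P hw
    induction u using QuotientGroup.induction_on with | H m => ?_
    let sn : P.N := ⟨s.1, P.subset s.2⟩
    have h1 : ((sn * m : P.N) : G) ∈ cell P v := he ▸ mem_cell_self P (sn * m)
    have hb : ((s : G) * s)⁻¹ ∈ P.B := inv_mem (P.sq_mem s.1 s.2)
    have h2 := simp_mul_cases P s hb h1
    have e : (s : G) * ((s : G) * s)⁻¹ * ((sn * m : P.N) : G) = (m : G) := by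
      show (s : G) * ((s : G) * s)⁻¹ * ((s : G) * m) = m
      group
    rw [e] at h2
    rcases h2 with h2 | h2
    · have := ih (wcl P m) (simp' P s * v) hu (by have := len_le_simp_mul P s v; omega)
        (cell_eq_of_mem P (mem_cell_self P m) h2)
      show simp' P s * wcl P m = v
      rw [this, simp_mul_cancel]
    · have := ih (wcl P m) v hu (by omega) (cell_eq_of_mem P (mem_cell_self P m) h2)
      change len P (wcl P m) = k at hu
      rw [this] at hu
      omega

theorem cell_inj {w v : Weyl P} (h : cell P w = cell P v) : w = v := by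
  induction w using QuotientGroup.induction_on with | H n => ?_
  exact cell_injective P (mem_cell_self P n) (h ▸ mem_cell_self P n)

/-- If the length does not drop, the product is a single cell. -/
theorem simp_mul_of_len_le (s : P.S) {w : Weyl P} (h : len P w ≤ len P (simp' P s * w)) {b : G}
    (hb : b ∈ P.B) {g : G} (hg : g ∈ cell P w) : (s : G) * b * g ∈ cell P (simp' P s * w) := by
  induction hk : len P w generalizing w g b with
  | zero =>
    have hw := len_eq_zero P hk
    rw [hw, mem_cell_one] at hg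
    rw [hw, mul_one, mul_assoc]
    exact simp_B_mem_cell P s (mul_mem hb hg)
  | succ k ih =>
    refine (simp_mul_cases P s hb hg).resolve_right fun hcase => ?_
    -- split off the last letter
    obtain ⟨r, u', hu', hwr⟩ := exists_head P (w := w⁻¹) (k := k) (by
      obtain ⟨L, hL, hw⟩ := exists_reduced P w
      have h1 := len_le P L.reverse
      rw [prodW_reverse, hw, List.length_reverse, hL] at h1
      obtain ⟨L', hL', hw'⟩ := exists_reduced P w⁻¹
      have h2 := len_le P L'.reverse
      rw [prodW_reverse, hw', inv_inv, List.length_reverse, hL'] at h2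
      omega)
    have hlinv : ∀ x : Weyl P, len P x⁻¹ ≤ len P x := fun x => by
      obtain ⟨L, hL, hx⟩ := exists_reduced P x
      have h1 := len_le P L.reverse
      rwa [prodW_reverse, hx, List.length_reverse, hL] at h1
    obtain ⟨u, hu⟩ : ∃ u, u = u'⁻¹ := ⟨_, rfl⟩
    have hw : w = u * simp' P r := by rw [hu, ← inv_inv w, hwr, mul_inv_rev, simp_inv]
    have hlu : len P u = k := by
      have h1 := hlinv u'
      have h2 := hlinv u'⁻¹
      rw [inv_inv] at h2
      rw [hu]; omega
    have hright : ∀ x : Weyl P, len P (x * simp' P r) ≤ len P x + 1 := fun x => by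
      obtain ⟨L, hL, hx⟩ := exists_reduced P x
      have h1 := len_le P (L ++ [r])
      rwa [prodW_append, hx, prodW_cons, prodW_nil, mul_one, List.length_append, hL] at h1
    have hsu : len P u ≤ len P (simp' P s * u) := by
      by_contra hlt
      have := hright (simp' P s * u)
      rw [mul_assoc, ← hw] at this
      omega
    obtain ⟨n, hn, c, hc, c', hc', rfl⟩ := hg
    induction u using QuotientGroup.induction_on with | H m => ?_
    let rn : P.N := ⟨r.1, P.subset r.2⟩
    have hmr : wcl P n = wcl P (m * rn) := by rw [hn, hw]; rfl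
    have hq : ((m * rn : P.N) : G)⁻¹ * n ∈ P.B := (wcl_eq_iff P).1 hmr.symm
    obtain ⟨q, hqB, hnq⟩ : ∃ q ∈ P.B, (n : G) = (m : G) * r * q :=
      ⟨_, hq, by show (n : G) = (m : G) * r * (((m : G) * r)⁻¹ * n); group⟩
    have hx := ih hsu (mul_mem hb hc) (mem_cell_self P m) hlu
    -- the same element seen from the right
    have hy : (s : G) * (b * c) * m ∈ cell P (wcl P n * simp' P r) ∨
        (s : G) * (b * c) * m ∈ cell P (wcl P n) := by
      have hr1 : (q * c')⁻¹ * (r : G)⁻¹ ∈ cell P (simp' P r) := by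
        have h1 := inv_mem_cell P (simp_mem_cell P r)
        rw [simp_inv] at h1
        simpa using mul_mem_cell P (inv_mem (mul_mem hqB hc')) h1 (one_mem _)
      have hcase' : (s : G) * b * (c * n * c') ∈ cell P (wcl P n) := by rw [hn]; exact hcase
      have h2 := mul_cell_simp_cases P r hr1 hcase'
      have e : (s : G) * b * (c * n * c') * ((q * c')⁻¹ * (r : G)⁻¹) = (s : G) * (b * c) * m := by
        rw [hnq]; group
      rwa [e] at h2
    rw [hmr, show wcl P (m * rn) = wcl P m * simp' P r from rfl, mul_assoc, simp_mul_self, mul_one] at hy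
    rcases hy with hy | hy
    · exact simp_ne_one P s (mul_eq_right.1 (cell_injective P hx hy))
    · have h3 : simp' P s * wcl P m = w := by rw [hw]; exact cell_injective P hx hy
      have h4 : simp' P s * w = wcl P m := by rw [← h3, simp_mul_cancel]
      rw [h4] at h
      change len P (wcl P m) = k at hlu
      omega

/-- Some `s b s` lies outside `B`. -/
theorem exists_conj_mem_cell (s : P.S) :
    ∃ b ∈ P.B, (s : G) * b * s ∈ cell P (simp' P s) := by
  have hss : ∀ b ∈ P.B, (s : G) * b * s ∈ cell P (simp' P s) ∨ (s : G) * b * s ∈ P.B := fun b hb => by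
    rcases simp_mul_cases P s hb (simp_mem_cell P s) with h | h
    · rw [simp_mul_self, mem_cell_one] at h
      exact Or.inr h
    · exact Or.inl h
  by_contra! hall
  have key : ∀ b ∈ P.B, (s : G) * b * s ∈ P.B := fun b hb => (hss b hb).resolve_left (hall b hb)
  apply P.conj_ne s.1 s.2
  ext g
  refine ⟨?_, fun hg => ?_⟩
  · rintro ⟨b, hb, rfl⟩
    exact key b hb
  · have hq := inv_mem (P.sq_mem s.1 s.2)
    refine ⟨((s : G) * s)⁻¹ * ((s : G) * g * s) * ((s : G) * s)⁻¹, mul_mem (mul_mem hq (key g hg)) hq, ?_⟩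
    show (s : G) * (((s : G) * s)⁻¹ * ((s : G) * g * s) * ((s : G) * s)⁻¹) * s = g
    group

/-- When the length drops, the cell of `w` is met. -/
theorem exists_mem_cell_of_len_le (s : P.S) {w : Weyl P} (h : len P (simp' P s * w) ≤ len P w)
    (n : P.N) (hn : wcl P n = w) : ∃ b ∈ P.B, (s : G) * b * n ∈ cell P w := by
  obtain ⟨b, hb, hbs⟩ := exists_conj_mem_cell P s
  obtain ⟨m, hm⟩ : ∃ m : P.N, m = ⟨s.1, P.subset s.2⟩⁻¹ * n := ⟨_, rfl⟩
  have hmw : wcl P m = simp' P s * w := by
    rw [hm, ← hn, ← simp_inv]; rfl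
  rw [simp', cell_wcl, DoubleCoset.mem_doubleCoset] at hbs
  obtain ⟨c, hc, c', hc', hcc⟩ := hbs
  have h1 := simp_mul_of_len_le P s (by rw [simp_mul_cancel]; exact h) hc' (hmw ▸ mem_cell_self P m)
  rw [simp_mul_cancel] at h1
  refine ⟨b, hb, ?_⟩
  have h2 := mul_mem_cell P hc h1 (one_mem P.B)
  have e : c * ((s : G) * c' * m) * 1 = (s : G) * b * n := by
    have : c * (s : G) * c' = (s : G) * b * s := hcc.symm
    calc c * ((s : G) * c' * m) * 1 = (c * (s : G) * c') * m := by group
      _ = (s : G) * b * s * m := by rw [this]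
      _ = (s : G) * b * n := by rw [hm]; show _ * ((s : G)⁻¹ * n) = _; group
  rwa [e] at h2

theorem len_simp_mul_ne (s : P.S) (w : Weyl P) : len P (simp' P s * w) ≠ len P w := by
  intro h
  induction w using QuotientGroup.induction_on with | H n => ?_
  obtain ⟨b, hb, h1⟩ := exists_mem_cell_of_len_le P s h.le n rfl
  exact simp_ne_one P s (mul_eq_right.1
    (cell_injective P (simp_mul_of_len_le P s h.ge hb (mem_cell_self P n)) h1))

theorem len_simp_mul_cases (s : P.S) (w : Weyl P) :
    len P (simp' P s * w) = len P w + 1 ∨ len P w = len P (simp' P s * w) + 1 := by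
  have h1 := len_simp_mul_le P s w
  have h2 := len_le_simp_mul P s w
  have h3 := len_simp_mul_ne P s w
  omega

/-- The exchange condition. -/
theorem exchange (s : P.S) (L : List P.S) (hL : L.length = len P (prodW P L))
    (h : len P (simp' P s * prodW P L) ≤ L.length) :
    ∃ i < L.length, prodW P (L.eraseIdx i) = simp' P s * prodW P L := by
  induction L using List.reverseRecOn with
  | nil => simp [len_simp] at h
  | append_singleton L r ih =>
    have hred : L.length = len P (prodW P L) := by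
      refine le_antisymm ?_ (len_le P L)
      obtain ⟨L', hL', hp⟩ := exists_reduced P (prodW P L)
      have := len_le P (L' ++ [r])
      rw [prodW_append, hp, ← prodW_append, ← hL, List.length_append, List.length_append] at this
      simp at this
      omega
    by_cases hle : len P (simp' P s * prodW P L) ≤ L.length
    · obtain ⟨i, hi, hp⟩ := ih hred hle
      refine ⟨i, by simp; omega, ?_⟩
      rw [List.eraseIdx_append_of_lt_length hi, prodW_append, hp, prodW_append, mul_assoc]
    · have hgt : len P (prodW P L) ≤ len P (simp' P s * prodW P L) := by omega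
      refine ⟨L.length, by simp, ?_⟩
      rw [List.eraseIdx_append_of_length_le le_rfl, Nat.sub_self]
      simp only [List.eraseIdx_cons_zero, List.append_nil]
      induction hu : prodW P L using QuotientGroup.induction_on with | H m => ?_
      let rn : P.N := ⟨r.1, P.subset r.2⟩
      have hw : prodW P (L ++ [r]) = wcl P (m * rn) := by
        rw [prodW_append, hu, prodW_cons, prodW_nil, mul_one]; rfl
      rw [hu] at hgt
      obtain ⟨b, hb, h1⟩ := exists_mem_cell_of_len_le P s (w := wcl P (m * rn))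
        (by rw [← hw]; omega) (m * rn) rfl
      have h2 := simp_mul_of_len_le P s hgt hb (mem_cell_self P m)
      have h3 := mul_cell_simp_cases P r (simp_mem_cell P r) h2
      have e : (s : G) * b * m * r = (s : G) * b * ((m * rn : P.N) : G) := mul_assoc _ _ _
      rw [e] at h3
      rw [hw]
      rcases h3 with h3 | h3
      · have h4 := cell_injective P h3 h1
        rw [show wcl P (m * rn) = wcl P m * simp' P r from rfl, mul_assoc] at h4
        exact absurd (mul_eq_right.1 h4) (simp_ne_one P s)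
      · rw [← cell_injective P h3 h1, simp_mul_cancel]

/-! ### Parabolic subgroups -/

theorem self_mem_gen (s : P.S) (n : P.N) (h : len P (simp' P s * wcl P n) ≤ len P (wcl P n)) :
    (s : G) ∈ P.B ⊔ P.B.map (MulAut.conj (n : G)).toMonoidHom := by
  obtain ⟨b, hb, h1⟩ := exists_mem_cell_of_len_le P s h n rfl
  rw [cell_wcl, DoubleCoset.mem_doubleCoset] at h1
  obtain ⟨c, hc, c', hc', e⟩ := h1
  have : (s : G) = c * ((MulAut.conj (n : G)).toMonoidHom c') * b⁻¹ := by
    show (s : G) = c * ((n : G) * c' * (n : G)⁻¹) * b⁻¹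
    calc (s : G) = (s : G) * b * n * (n : G)⁻¹ * b⁻¹ := by group
      _ = c * n * c' * (n : G)⁻¹ * b⁻¹ := by rw [e]
      _ = c * ((n : G) * c' * (n : G)⁻¹) * b⁻¹ := by group
  rw [this]
  exact mul_mem (mul_mem (Subgroup.mem_sup_left hc) (Subgroup.mem_sup_right ⟨c', hc', rfl⟩))
    (Subgroup.mem_sup_left (inv_mem hb))

/-- `n` and the letters of its reduced words lie in every subgroup containing `B` and `n B n⁻¹`. -/
theorem letters_mem (L : List P.S) (n : P.N) (hL : L.length = len P (prodW P L)) (hn : wcl P n = prodW P L)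
    (M : Subgroup G) (hB : P.B ≤ M) (hc : ∀ b ∈ P.B, (n : G) * b * (n : G)⁻¹ ∈ M) :
    (n : G) ∈ M ∧ ∀ s ∈ L, (s : G) ∈ M := by
  induction L generalizing n with
  | nil =>
    rw [prodW_nil] at hn
    exact ⟨hB ((mem_hSub P).1 ((QuotientGroup.eq_one_iff _).1 hn)), by simp⟩
  | cons s L ih =>
    have hcancel : simp' P s * wcl P n = prodW P L := by rw [hn, prodW_cons, simp_mul_cancel]
    have hs : (s : G) ∈ M := by
      refine (sup_le hB ?_) (self_mem_gen P s n ?_)
      · rintro _ ⟨b, hb, rfl⟩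
        exact hc b hb
      · rw [hcancel, hn, ← hL, List.length_cons]
        exact (len_le P L).trans (Nat.le_succ _)
    obtain ⟨m, hm⟩ : ∃ m : P.N, m = ⟨s.1, P.subset s.2⟩⁻¹ * n := ⟨_, rfl⟩
    have hmG : (m : G) = (s : G)⁻¹ * n := by rw [hm]; rfl
    have hmw : wcl P m = prodW P L := by
      rw [← hcancel, ← simp_inv, hm]; rfl
    have hLr : L.length = len P (prodW P L) := by
      refine le_antisymm ?_ (len_le P L)
      have h1 := len_simp_mul_le P s (prodW P L)
      rw [← prodW_cons, ← hL, List.length_cons] at h1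
      omega
    obtain ⟨h1, h2⟩ := ih m hLr hmw (fun b hb => by
      rw [hmG]
      have := mul_mem (mul_mem (inv_mem hs) (hc b hb)) hs
      convert this using 1
      group)
    refine ⟨?_, fun t ht => ?_⟩
    · have := mul_mem hs h1
      rwa [hmG, mul_inv_cancel_left] at this
    · rcases List.mem_cons.1 ht with rfl | ht
      · exact hs
      · exact h2 t ht

/-- An element conjugating `B` into a subgroup containing `B` lies in it. -/
theorem mem_of_conj_le (M : Subgroup G) (hB : P.B ≤ M) (g : G) (hg : ∀ b ∈ P.B, g * b * g⁻¹ ∈ M) :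
    g ∈ M := by
  obtain ⟨w, n, hn, c, hc, c', hc', rfl⟩ := exists_cell P g
  obtain ⟨L, hL, hw⟩ := exists_reduced P w
  have hc2 : ∀ b ∈ P.B, (n : G) * b * (n : G)⁻¹ ∈ M := fun b hb => by
    have h1 := hg (c'⁻¹ * b * c') (mul_mem (mul_mem (inv_mem hc') hb) hc')
    have := mul_mem (mul_mem (inv_mem (hB hc)) h1) (hB hc)
    convert this using 1
    group
  exact mul_mem (mul_mem (hB hc) (letters_mem P L n (by rw [hw, hL]) (by rw [hn, hw]) M hB hc2).1) (hB hc')

theorem parabolic_le_iff {J : Set G} (M : Subgroup G) (hB : P.B ≤ M) :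
    P.parabolic J ≤ M ↔ J ⊆ M := by
  rw [Cfsg.BNPair.parabolic, sup_le_iff, Subgroup.closure_le]
  exact ⟨fun h => h.2, fun h => ⟨hB, h⟩⟩

theorem B_le_parabolic (J : Set G) : P.B ≤ P.parabolic J := le_sup_left

theorem subset_parabolic (J : Set G) : J ⊆ P.parabolic J := fun _ hx =>
  Subgroup.mem_sup_right (Subgroup.subset_closure hx)

/-- Overgroups of `B` are parabolic. -/
theorem eq_parabolic (M : Subgroup G) (hB : P.B ≤ M) : M = P.parabolic (P.S ∩ M) := by
  refine le_antisymm (fun g hg => ?_) ((parabolic_le_iff P M hB).2 Set.inter_subset_right)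
  refine mem_of_conj_le P _ (B_le_parabolic P _) g ?_
  obtain ⟨w, n, hn, c, hc, c', hc', rfl⟩ := exists_cell P g
  have hnM : (n : G) ∈ M := by
    have := mul_mem (mul_mem (inv_mem (hB hc)) hg) (inv_mem (hB hc'))
    convert this using 1
    group
  obtain ⟨L, hL, hw⟩ := exists_reduced P w
  have h2 := (letters_mem P L n (by rw [hw, hL]) (by rw [hn, hw]) M hB
    fun b hb => mul_mem (mul_mem hnM (hB hb)) (inv_mem hnM)).2
  -- the class of `n` is a product of letters in `S ∩ M`
  have hnP : (n : G) ∈ P.parabolic (P.S ∩ M) := by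
    have key : ∀ (L : List P.S) (n : P.N), (∀ s ∈ L, (s : G) ∈ M) → wcl P n = prodW P L →
        (n : G) ∈ P.parabolic (P.S ∩ M) := by
      intro L
      induction L with
      | nil => exact fun n _ hn => B_le_parabolic P _ ((mem_hSub P).1 ((QuotientGroup.eq_one_iff _).1 hn))
      | cons s L ih =>
        intro n hL hn
        have h3 := ih (⟨s.1, P.subset s.2⟩⁻¹ * n) (fun t ht => hL t (List.mem_cons_of_mem _ ht)) (by
          show (simp' P s)⁻¹ * wcl P n = _
          rw [hn, prodW_cons, inv_mul_cancel_left])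
        have h4 := mul_mem (subset_parabolic P (P.S ∩ M) ⟨s.2, hL s List.mem_cons_self⟩) h3
        change (s : G) * ((s : G)⁻¹ * n) ∈ _ at h4
        rwa [mul_inv_cancel_left] at h4
    exact key L n h2 (by rw [hn, hw])
  intro b hb
  have hg' : c * (n : G) * c' ∈ P.parabolic (P.S ∩ M) :=
    mul_mem (mul_mem (B_le_parabolic P _ hc) hnP) (B_le_parabolic P _ hc')
  exact mul_mem (mul_mem hg' (B_le_parabolic P _ hb)) (inv_mem hg')

theorem exists_word_of_mem_closure {J : Set G} (hJ : J ⊆ P.S) (n : P.N)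
    (hn : (n : G) ∈ Subgroup.closure J) :
    ∃ L : List P.S, (∀ s ∈ L, (s : G) ∈ J) ∧ prodW P L = wcl P n := by
  let K : Subgroup P.N :=
    { carrier := {n | ∃ L : List P.S, (∀ s ∈ L, (s : G) ∈ J) ∧ prodW P L = wcl P n}
      one_mem' := ⟨[], by simp, rfl⟩
      mul_mem' := fun {a b} ⟨L, h, hL⟩ ⟨L', h', hL'⟩ => ⟨L ++ L',
        fun s hs => (List.mem_append.1 hs).elim (h s) (h' s), by rw [prodW_append, hL, hL']; rfl⟩
      inv_mem' := fun {a} ⟨L, h, hL⟩ => ⟨L.reverse, fun s hs => h s (List.mem_reverse.1 hs),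
        by rw [prodW_reverse, hL]; rfl⟩ }
  have hle : Subgroup.closure J ≤ K.map P.N.subtype := (Subgroup.closure_le _).2 fun s hs =>
    ⟨⟨s, P.subset (hJ hs)⟩, ⟨[⟨s, hJ hs⟩], by simpa using hs, by simp [simp']⟩, rfl⟩
  obtain ⟨m, hm, hmn⟩ := hle hn
  have : m = n := Subtype.ext hmn
  exact this ▸ hm

theorem exists_reduced_subword (p : P.S → Prop) (L : List P.S) (h : ∀ s ∈ L, p s) :
    ∃ L' : List P.S, (∀ s ∈ L', p s) ∧ prodW P L' = prodW P L ∧ L'.length = len P (prodW P L) := by
  induction L with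
  | nil => exact ⟨[], by simp, rfl, (len_one P).symm⟩
  | cons s L ih =>
    obtain ⟨L', h', hp, hl⟩ := ih fun t ht => h t (List.mem_cons_of_mem _ ht)
    rw [← hp] at hl
    rw [prodW_cons, ← hp]
    rcases len_simp_mul_cases P s (prodW P L') with hc | hc
    · refine ⟨s :: L', fun t ht => (List.mem_cons.1 ht).elim (fun e => e ▸ h s List.mem_cons_self) (h' t),
        prodW_cons P s L', ?_⟩
      rw [List.length_cons, hl, hc]
    · obtain ⟨i, hi, he⟩ := exchange P s L' hl (by omega)
      refine ⟨L'.eraseIdx i, fun t ht => h' t (List.mem_of_mem_eraseIdx ht), he, ?_⟩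
      rw [List.length_eraseIdx_of_lt hi]
      omega

/-- A generator in a parabolic subgroup is one of its generators. -/
theorem mem_of_mem_parabolic {J : Set G} (hJ : J ⊆ P.S) {s : G} (hs : s ∈ P.S)
    (h : s ∈ P.parabolic J) : s ∈ J := by
  obtain ⟨n, hn, hsn⟩ := exists_cell_of_mem P hJ h
  have he := cell_injective P (simp_mem_cell P ⟨s, hs⟩) hsn
  obtain ⟨L, hLJ, hL⟩ := exists_word_of_mem_closure P hJ n hn
  obtain ⟨L', h', hp, hl⟩ := exists_reduced_subword P (fun t => (t : G) ∈ J) L hLJ
  rw [hL, ← he, len_simp, List.length_eq_one_iff] at hl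
  obtain ⟨t, rfl⟩ := hl
  rw [prodW_cons, prodW_nil, mul_one, hL, ← he] at hp
  have := simp_injective P hp
  subst this
  exact h' _ (List.mem_singleton.2 rfl)

theorem parabolic_le_parabolic_iff {J K : Set G} (hJ : J ⊆ P.S) (hK : K ⊆ P.S) :
    P.parabolic J ≤ P.parabolic K ↔ J ⊆ K := by
  refine ⟨fun h s hs => mem_of_mem_parabolic P hK (hJ hs) (h (subset_parabolic P J hs)), fun h => ?_⟩
  exact (parabolic_le_iff P _ (B_le_parabolic P K)).2 (h.trans (subset_parabolic P K))

end CfsgLib.BNPair
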