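import Mathlib
import Cfsg.Agent.Lib.BNPair.Bruhat

/-!
Parabolic subgroups, rank one, and Tits's simplicity criterion.
-/

set_option autoImplicit false

namespace CfsgLib.BNPair

open scoped Pointwise commutatorElement

variable {G : Type*} [Group G] (P : Cfsg.BNPair G)

theorem doubleCoset_eq_iff {n n' : G} (hn : n ∈ P.N) (hn' : n' ∈ P.N) :
    DoubleCoset.doubleCoset n (P.B : Set G) P.B = DoubleCoset.doubleCoset n' (P.B : Set G) P.B ↔
      n⁻¹ * n' ∈ P.B := by
  rw [← cell_wcl P ⟨n, hn⟩, ← cell_wcl P ⟨n', hn'⟩]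
  refine ⟨fun h => (wcl_eq_iff P).1 (cell_inj P h), fun h => ?_⟩
  rw [(wcl_eq_iff P (n := ⟨n, hn⟩) (m := ⟨n', hn'⟩)).2 h]

theorem exists_doubleCoset (g : G) :
    ∃ n ∈ P.N, g ∈ DoubleCoset.doubleCoset n (P.B : Set G) P.B := by
  obtain ⟨w, hw⟩ := exists_cell P g
  induction w using QuotientGroup.induction_on with | H n => ?_
  exact ⟨n, n.2, (cell_wcl P n).le hw⟩

theorem mem_parabolic_iff {J : Set G} (hJ : J ⊆ P.S) (g : G) :
    g ∈ P.parabolic J ↔ ∃ n ∈ Subgroup.closure J, g ∈ DoubleCoset.doubleCoset n (P.B : Set G) P.B := by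
  constructor
  · intro hg
    obtain ⟨n, hn, h⟩ := exists_cell_of_mem P hJ hg
    exact ⟨n, hn, (cell_wcl P n).le h⟩
  · rintro ⟨n, hn, hg⟩
    obtain ⟨b, hb, b', hb', rfl⟩ := DoubleCoset.mem_doubleCoset.1 hg
    exact mul_mem (mul_mem (B_le_parabolic P J hb) (Subgroup.mem_sup_right hn)) (B_le_parabolic P J hb')

theorem exists_parabolic (M : Subgroup G) (hM : P.B ≤ M) : ∃ J ⊆ P.S, M = P.parabolic J :=
  ⟨_, Set.inter_subset_left, eq_parabolic P M hM⟩

theorem normalizer_parabolic {J : Set G} (_hJ : J ⊆ P.S) :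
    Subgroup.normalizer (P.parabolic J : Set G) = P.parabolic J := by
  refine le_antisymm (fun g hg => mem_of_conj_le P _ (B_le_parabolic P J) g fun b hb => ?_)
    Subgroup.le_normalizer
  exact (Subgroup.mem_set_normalizer_iff.1 hg b).1 (B_le_parabolic P J hb)

theorem parabolic_eq_of_conj {J K : Set G} (hJ : J ⊆ P.S) (hK : K ⊆ P.S) (g : G)
    (h : (P.parabolic J).map (MulAut.conj g).toMonoidHom = P.parabolic K) :
    P.parabolic J = P.parabolic K := by
  have hg : g ∈ P.parabolic K := mem_of_conj_le P _ (B_le_parabolic P K) g fun b hb => by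
    rw [← h]; exact ⟨b, B_le_parabolic P J hb, rfl⟩
  ext x
  have h1 : g * x * g⁻¹ ∈ P.parabolic K ↔ x ∈ P.parabolic J := by
    rw [← h]
    exact ⟨fun ⟨y, hy, e⟩ => (MulAut.conj g).injective e ▸ hy, fun hx => ⟨x, hx, rfl⟩⟩
  rw [← h1, Subgroup.mul_mem_cancel_right _ (inv_mem hg), Subgroup.mul_mem_cancel_left _ hg]

theorem parabolic_injective {J K : Set G} (hJ : J ⊆ P.S) (hK : K ⊆ P.S)
    (h : P.parabolic J = P.parabolic K) : J = K :=
  subset_antisymm ((parabolic_le_parabolic_iff P hJ hK).1 h.le) ((parabolic_le_parabolic_iff P hK hJ).1 h.ge)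

theorem parabolic_inf {J K : Set G} (hJ : J ⊆ P.S) (hK : K ⊆ P.S) :
    P.parabolic J ⊓ P.parabolic K = P.parabolic (J ∩ K) := by
  refine le_antisymm ?_ (le_inf ((parabolic_le_parabolic_iff P (Set.inter_subset_left.trans hJ) hJ).2 Set.inter_subset_left)
    ((parabolic_le_parabolic_iff P (Set.inter_subset_left.trans hJ) hK).2 Set.inter_subset_right))
  rw [eq_parabolic P (P.parabolic J ⊓ P.parabolic K) (le_inf (B_le_parabolic P J) (B_le_parabolic P K))]
  refine (parabolic_le_parabolic_iff P Set.inter_subset_left (Set.inter_subset_left.trans hJ)).2 ?_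
  rintro s ⟨hs, hsJ, hsK⟩
  exact ⟨mem_of_mem_parabolic P hJ hs hsJ, mem_of_mem_parabolic P hK hs hsK⟩

theorem exists_orderIso :
    ∃ e : Set P.S ≃o {M : Subgroup G // P.B ≤ M},
      ∀ J : Set P.S, ((e J : {M : Subgroup G // P.B ≤ M}) : Subgroup G) = P.parabolic (Subtype.val '' J) := by
  have hsub : ∀ J : Set P.S, Subtype.val '' J ⊆ P.S := fun J => by rintro _ ⟨s, -, rfl⟩; exact s.2
  let f : Set P.S → {M : Subgroup G // P.B ≤ M} := fun J =>
    ⟨P.parabolic (Subtype.val '' J), B_le_parabolic P _⟩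
  let g : {M : Subgroup G // P.B ≤ M} → Set P.S := fun M => {s | (s : G) ∈ M.1}
  refine ⟨⟨⟨f, g, fun J => ?_, fun M => ?_⟩, fun {J K} => ?_⟩, fun J => rfl⟩
  · ext s
    refine ⟨fun hs => ?_, fun hs => subset_parabolic P _ ⟨s, hs, rfl⟩⟩
    obtain ⟨t, ht, e⟩ := mem_of_mem_parabolic P (hsub J) s.2 hs
    exact Subtype.ext e ▸ ht
  · apply Subtype.ext
    show P.parabolic (Subtype.val '' g M) = M.1
    rw [eq_parabolic P M.1 M.2, Subtype.coe_image]
    congr 1
    ext x
    exact ⟨fun ⟨h, h'⟩ => ⟨h, h'⟩, fun ⟨h, h'⟩ => ⟨h, h'⟩⟩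
  · show P.parabolic (Subtype.val '' J) ≤ P.parabolic (Subtype.val '' K) ↔ J ≤ K
    rw [parabolic_le_parabolic_iff P (hsub J) (hsub K)]
    exact Set.image_subset_image_iff Subtype.val_injective

theorem not_mem_closure_diff {s : G} (hs : s ∈ P.S) :
    s ∉ Subgroup.closure (P.S \ {s}) ⊔ (P.B ⊓ P.N) := by
  intro h
  have h1 : s ∈ P.parabolic (P.S \ {s}) :=
    (sup_le le_sup_right (inf_le_left.trans le_sup_left) : Subgroup.closure (P.S \ {s}) ⊔ (P.B ⊓ P.N) ≤ P.parabolic (P.S \ {s})) h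
  exact (mem_of_mem_parabolic P Set.diff_subset hs h1).2 rfl

theorem sup_conj_eq {n : G} (hn : n ∈ P.N) :
    P.B ⊔ Subgroup.closure {n} = P.B ⊔ P.B.map (MulAut.conj n).toMonoidHom := by
  refine le_antisymm (sup_le le_sup_left ((Subgroup.closure_le _).2 ?_)) (sup_le le_sup_left ?_)
  · rintro _ rfl
    exact mem_of_conj_le P _ le_sup_left _ fun b hb => Subgroup.mem_sup_right ⟨b, hb, rfl⟩
  · rintro _ ⟨b, hb, rfl⟩
    have h : n ∈ P.B ⊔ Subgroup.closure {n} := Subgroup.mem_sup_right (Subgroup.subset_closure rfl)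
    exact mul_mem (mul_mem h (Subgroup.mem_sup_left hb)) (inv_mem h)

theorem parabolic_singleton_eq (s : P.S) :
    (P.parabolic {(s : G)} : Set G) = (P.B : Set G) ∪ DoubleCoset.doubleCoset (s : G) (P.B : Set G) P.B := by
  rw [← cell_wcl P ⟨s.1, P.subset s.2⟩]
  ext g
  constructor
  · intro hg
    have hJ : ({(s : G)} : Set G) ⊆ P.S := Set.singleton_subset_iff.2 s.2
    obtain ⟨n, hn, hgn⟩ := exists_cell_of_mem P hJ hg
    obtain ⟨L, hL, hp⟩ := exists_word_of_mem_closure P hJ n hn
    have key : ∀ L : List P.S, (∀ t ∈ L, (t : G) ∈ ({(s : G)} : Set G)) → prodW P L = 1 ∨ prodW P L = simp' P s := by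
      intro L
      induction L with
      | nil => exact fun _ => Or.inl rfl
      | cons t L ih =>
        intro h
        have ht : t = s := Subtype.ext (h t List.mem_cons_self)
        subst ht
        rcases ih fun u hu => h u (List.mem_cons_of_mem _ hu) with e | e <;> rw [prodW_cons, e]
        · exact Or.inr (mul_one _)
        · exact Or.inl (simp_mul_self P t)
    rcases key L hL with e | e <;> rw [← hp, e] at hgn
    · exact Or.inl ((mem_cell_one P).1 hgn)
    · exact Or.inr hgn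
  · rintro (hg | ⟨n, hn, b, hb, b', hb', rfl⟩)
    · exact B_le_parabolic P _ hg
    · refine mul_mem (mul_mem (B_le_parabolic P _ hb) ?_) (B_le_parabolic P _ hb')
      have h1 : (s : G)⁻¹ * n ∈ P.B := (wcl_eq_iff P).1 hn.symm
      have := mul_mem (subset_parabolic P _ (Set.mem_singleton (s : G))) (B_le_parabolic P {(s : G)} h1)
      rwa [mul_inv_cancel_left] at this

theorem exists_subgroup_union_iff {n : G} (hn : n ∈ P.N) (hnB : n ∉ P.B) :
    (∃ H : Subgroup G, (H : Set G) = (P.B : Set G) ∪ DoubleCoset.doubleCoset n (P.B : Set G) P.B) ↔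
      ∃ s ∈ P.S, s⁻¹ * n ∈ P.B := by
  constructor
  · rintro ⟨H, hH⟩
    have hBH : P.B ≤ H := fun b hb => hH.ge (Or.inl hb)
    have hnH : n ∈ H := hH.ge (Or.inr ((cell_wcl P ⟨n, hn⟩).le (mem_cell_self P ⟨n, hn⟩)))
    by_contra! hne
    apply hnB
    have hempty : P.S ∩ (H : Set G) = ∅ := by
      ext s
      refine iff_of_false (fun ⟨hs, hsH⟩ => ?_) id
      rcases hH.le hsH with h | h
      · exact not_mem_B P ⟨s, hs⟩ h
      · refine hne s hs ((doubleCoset_eq_iff P (P.subset hs) hn).1 ?_)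
        exact (DoubleCoset.doubleCoset_eq_of_mem h)
    have h2 := eq_parabolic P H hBH
    rw [hempty, Cfsg.BNPair.parabolic, Subgroup.closure_empty, sup_bot_eq] at h2
    exact h2 ▸ hnH
  · rintro ⟨s, hs, h⟩
    refine ⟨P.parabolic {s}, ?_⟩
    rw [parabolic_singleton_eq P ⟨s, hs⟩, (doubleCoset_eq_iff P (P.subset hs) hn).2 h]

theorem two_pretransitive_of_rank_one (h : P.rank = 1) : MulAction.IsMultiplyPretransitive G (G ⧸ P.B) 2 := by
  obtain ⟨hs, ⟨s⟩⟩ := Nat.card_eq_one_iff_unique.1 h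
  have hG : ∀ g : G, g ∈ P.B ∨ ∃ b ∈ P.B, ∃ b' ∈ P.B, g = b * s * b' := by
    intro g
    have hS : P.S = {(s : G)} := by
      ext x
      exact ⟨fun hx => congrArg Subtype.val (Subsingleton.elim (⟨x, hx⟩ : P.S) s), fun hx => hx ▸ s.2⟩
    have hg : g ∈ (P.parabolic {(s : G)} : Set G) := by rw [← hS, parabolic_S]; trivial
    rw [parabolic_singleton_eq P s] at hg
    rcases hg with h | h
    · exact Or.inl h
    · exact Or.inr (DoubleCoset.mem_doubleCoset.1 h)
  rw [MulAction.is_two_pretransitive_iff]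
  -- every ordered pair can be sent to `(B, sB)`
  suffices key : ∀ a c : G ⧸ P.B, a ≠ c →
      ∃ g : G, g • ((1 : G) : G ⧸ P.B) = a ∧ g • ((s : G) : G ⧸ P.B) = c by
    intro a b c d hab hcd
    obtain ⟨g, hga, hgb⟩ := key a b hab
    obtain ⟨k, hkc, hkd⟩ := key c d hcd
    exact ⟨k * g⁻¹, by rw [← hga, mul_smul, inv_smul_smul, hkc], by rw [← hgb, mul_smul, inv_smul_smul, hkd]⟩
  intro a c hac
  induction a using QuotientGroup.induction_on with | H x => ?_
  induction c using QuotientGroup.induction_on with | H y => ?_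
  rcases hG (x⁻¹ * y) with h | ⟨b, hb, b', hb', e⟩
  · exact absurd (QuotientGroup.eq.2 h) hac
  · refine ⟨x * b, ?_, ?_⟩
    · show ((x * b * 1 : G) : G ⧸ P.B) = _
      exact QuotientGroup.eq.2 (by simpa [mul_assoc] using inv_mem hb)
    · show ((x * b * s : G) : G ⧸ P.B) = _
      refine QuotientGroup.eq.2 ?_
      have : (x * b * (s : G))⁻¹ * y = b' := by
        calc (x * b * (s : G))⁻¹ * y = (b * (s : G))⁻¹ * (x⁻¹ * y) := by group
          _ = b' := by rw [e]; group
      rwa [this]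

/-- Tits's simplicity criterion. -/
theorem isSimpleGroup_of_irreducible [Nontrivial G] (hirr : P.Irreducible) (hsolv : Group.IsSolvable P.B)
    (hperf : commutator G = ⊤) (hcore : P.B.normalCore = ⊥) : IsSimpleGroup G := by
  refine IsSimpleGroup.mk fun K hK => ?_
  set J := P.S ∩ ((P.B ⊔ K : Subgroup G) : Set G) with hJdef
  have hJ : J ⊆ P.S := Set.inter_subset_left
  have hBK : P.B ⊔ K = P.parabolic J := eq_parabolic P _ le_sup_left
  rcases J.eq_empty_or_nonempty with h0 | hne
  · left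
    rw [eq_bot_iff, ← hcore]
    refine Subgroup.normal_le_normalCore.2 ?_
    calc K ≤ P.B ⊔ K := le_sup_right
      _ ≤ P.B := by rw [hBK, h0, Cfsg.BNPair.parabolic, Subgroup.closure_empty, sup_bot_eq]
  by_cases hI : (P.S \ J).Nonempty
  · exfalso
    obtain ⟨r, hr, s, hsI, hnc⟩ := hirr J hJ hne hI
    have hrS := hJ hr
    have hsS := hsI.1
    let rr : P.S := ⟨r, hrS⟩
    let ss : P.S := ⟨s, hsS⟩
    have hrs : rr ≠ ss := fun e => hsI.2 (by
      have e' : r = s := congrArg Subtype.val e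
      rwa [← e'])
    -- an element of `K` in the cell of `r`
    have hr' : r ∈ P.B ⊔ K := hr.2
    rw [← SetLike.mem_coe, Subgroup.mul_normal] at hr'
    obtain ⟨b, hb, k, hk, e⟩ := hr'
    have hkc : k ∈ cell P (simp' P rr) := by
      have := mul_mem_cell P (inv_mem hb) (simp_mem_cell P rr) (one_mem P.B)
      rw [mul_one] at this
      convert this using 1
      show k = b⁻¹ * r
      rw [← e]; group
    obtain ⟨n, hn, c, hc, c', hc', ek⟩ := hkc
    have hnr : ((⟨r, P.subset hrS⟩ : P.N) : G)⁻¹ * n ∈ P.B := (wcl_eq_iff P).1 hn.symm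
    -- lengths
    have hle : len P (simp' P rr) ≤ len P (simp' P ss * simp' P rr) := by
      rcases len_simp_mul_cases P ss (simp' P rr) with h | h
      · omega
      · rw [len_simp] at h
        have h2 := len_eq_zero P (w := simp' P ss * simp' P rr) (by omega)
        rw [mul_eq_one_iff_eq_inv, simp_inv] at h2
        exact absurd (simp_injective P h2).symm hrs
    have hsk : s * k ∈ cell P (simp' P ss * simp' P rr) := by
      have := simp_mul_of_len_le P ss hle (one_mem P.B) (⟨n, hn, c, hc, c', hc', ek⟩ : k ∈ cell P (simp' P rr))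
      simpa using this
    have hs' : s⁻¹ ∈ cell P (simp' P ss) := by
      simpa [simp_inv] using inv_mem_cell P (simp_mem_cell P ss)
    have hsks : s * k * s⁻¹ ∈ P.parabolic J :=
      hBK ▸ Subgroup.mem_sup_right (hK.conj_mem k hk s)
    obtain ⟨m, hm, hmc⟩ := exists_cell_of_mem P hJ hsks
    obtain ⟨L, hLJ, hL⟩ := exists_word_of_mem_closure P hJ m hm
    have hsub : ∀ M : List P.S, (∀ t ∈ M, (t : G) ∈ J) → ∀ n : P.N, wcl P n = prodW P M → (n : G) ∈ P.parabolic J := by
      intro M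
      induction M with
      | nil => exact fun _ n hn => B_le_parabolic P _ ((mem_hSub P).1 ((QuotientGroup.eq_one_iff _).1 hn))
      | cons t M ih =>
        intro hM n hn
        have h3 := ih (fun u hu => hM u (List.mem_cons_of_mem _ hu)) (⟨t.1, P.subset t.2⟩⁻¹ * n) (by
          show (simp' P t)⁻¹ * wcl P n = _
          rw [hn, prodW_cons, inv_mul_cancel_left])
        have h4 := mul_mem (subset_parabolic P J (hM t List.mem_cons_self)) h3
        change (t : G) * ((t : G)⁻¹ * n) ∈ _ at h4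
        rwa [mul_inv_cancel_left] at h4
    have hsP : s ∉ P.parabolic J := fun h => hsI.2 (mem_of_mem_parabolic P hJ hsS h)
    rcases mul_cell_simp_cases P ss hs' hsk with h | h
    · have hw := cell_injective P h hmc
      -- `srs` is a word in `J`, and one in `{r, s}`
      let sN : P.N := ⟨s, P.subset hsS⟩
      let rN : P.N := ⟨r, P.subset hrS⟩
      have hw' : wcl P (sN * rN * sN) = prodW P L := by rw [hL, ← hw]; rfl
      have h1 : s * r * s ∈ P.parabolic J := hsub L hLJ (sN * rN * sN) hw'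
      have h2 : s * r * s ∈ P.parabolic {r, s} :=
        mul_mem (mul_mem (subset_parabolic P _ (Or.inr rfl)) (subset_parabolic P _ (Or.inl rfl)))
          (subset_parabolic P _ (Or.inr rfl))
      have h3 : s * r * s ∈ P.parabolic {r} := by
        have := (parabolic_inf P hJ (K := {r, s}) (Set.pair_subset hrS hsS)).le ⟨h1, h2⟩
        refine (parabolic_le_parabolic_iff P (Set.inter_subset_left.trans hJ) (Set.singleton_subset_iff.2 hrS)).2 ?_ this
        rintro x ⟨hxJ, hx | hx⟩
        · exact hx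
        · exact absurd (hx ▸ hxJ) hsI.2
      rw [← SetLike.mem_coe, parabolic_singleton_eq P rr, ← cell_wcl P rN] at h3
      have h5 : ((sN * rN * sN : P.N) : G) ∈ cell P (simp' P ss * simp' P rr * simp' P ss) := mem_cell_self P _
      rcases h3 with h3 | h3
      · have h4 := cell_injective P h5 ((mem_cell_one P).2 h3)
        apply simp_ne_one P rr
        have := congrArg (fun w => simp' P ss * w * simp' P ss) h4
        simpa [mul_assoc, simp_mul_self, simp_mul_cancel] using this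
      · have h4 := cell_injective P h5 h3
        apply hnc
        have h6 : simp' P rr * simp' P ss * (simp' P rr)⁻¹ * (simp' P ss)⁻¹ = 1 := by
          rw [simp_inv, simp_inv, mul_assoc, mul_assoc, ← mul_assoc (simp' P ss), h4]
          exact simp_mul_self P rr
        have h7 : wcl P (rN * sN * rN⁻¹ * sN⁻¹) = 1 := h6
        exact (mem_hSub P).1 ((QuotientGroup.eq_one_iff _).1 h7)
    · have hw := cell_injective P h hmc
      let sN : P.N := ⟨s, P.subset hsS⟩
      let rN : P.N := ⟨r, P.subset hrS⟩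
      have h1 : s * r ∈ P.parabolic J := hsub L hLJ (sN * rN) (by rw [hL, ← hw]; rfl)
      exact hsP ((Subgroup.mul_mem_cancel_right _ (subset_parabolic P J hr)).1 h1)
  · right
    have hJS : J = P.S := subset_antisymm hJ fun x hx => by
      by_contra h
      exact hI ⟨x, hx, h⟩
    rw [hJS, parabolic_S] at hBK
    let f := (QuotientGroup.mk' K).comp P.B.subtype
    have hf : Function.Surjective f := by
      intro x
      obtain ⟨g, rfl⟩ := QuotientGroup.mk'_surjective K x
      have hg : g ∈ P.B ⊔ K := hBK ▸ Subgroup.mem_top g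
      rw [← SetLike.mem_coe, Subgroup.mul_normal] at hg
      obtain ⟨b, hb, k, hk, rfl⟩ := hg
      refine ⟨⟨b, hb⟩, QuotientGroup.eq.2 ?_⟩
      simpa using hk
    have hsolvQ : Group.IsSolvable (G ⧸ K) := Group.isSolvable_of_surjective hf
    by_contra hne'
    have : Nontrivial (G ⧸ K) := QuotientGroup.nontrivial_iff.2 hne'
    refine (Group.IsSolvable.commutator_lt_top_of_nontrivial (G ⧸ K)).ne ?_
    rw [← Subgroup.map_top_of_surjective _ (QuotientGroup.mk'_surjective K), ← hperf, commutator_def,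
      commutator_def, Subgroup.map_commutator, Subgroup.map_top_of_surjective _ (QuotientGroup.mk'_surjective K)]

/-- A doubly transitive group has a (B,N)-pair of rank one. -/
theorem exists_bnPair_of_two_pretransitive {Ω : Type*} [MulAction G Ω]
    (h2 : MulAction.IsMultiplyPretransitive G Ω 2) {x y z : Ω} (hxy : x ≠ y) (hyz : y ≠ z) (hxz : x ≠ z) :
    ∃ P : Cfsg.BNPair G, P.B = MulAction.stabilizer G x ∧
      P.N = MulAction.stabilizer G ({x, y} : Set Ω) ∧ P.rank = 1 := by
  rw [MulAction.is_two_pretransitive_iff] at h2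
  obtain ⟨w, hwx, hwy⟩ := h2 hxy hxy.symm
  set B := MulAction.stabilizer G x
  set N := MulAction.stabilizer G ({x, y} : Set Ω)
  have hN : ∀ n : G, n ∈ N ↔ (n • x = x ∧ n • y = y) ∨ (n • x = y ∧ n • y = x) := by
    intro n
    rw [MulAction.mem_stabilizer_iff, Set.smul_set_insert, Set.smul_set_singleton, Set.pair_eq_pair_iff]
  have hB : ∀ n : G, n ∈ B ↔ n • x = x := fun n => MulAction.mem_stabilizer_iff
  have hwN : w ∈ N := (hN w).2 (Or.inr ⟨hwx, hwy⟩)
  have hwB : w ∉ B := fun h => hxy (((hB w).1 h).symm.trans hwx)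
  have hww : w * w ∈ B ⊓ N := ⟨(hB _).2 (by rw [mul_smul, hwx, hwy]), mul_mem hwN hwN⟩
  -- the complement of `B` is a single double coset
  have hdec : ∀ g : G, g ∉ B → ∃ b ∈ B, ∃ b' ∈ B, g = b * w * b' := by
    intro g hg
    have hgx : x ≠ g • x := fun e => hg ((hB g).2 e.symm)
    obtain ⟨b, hbx, hby⟩ := h2 hxy hgx
    refine ⟨b, (hB b).2 hbx, (b * w)⁻¹ * g, (hB _).2 ?_, by group⟩
    rw [mul_smul, inv_smul_eq_iff, mul_smul, hwx, hby]
  have hclo : Subgroup.closure {w} ⊔ (B ⊓ N) = N := by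
    refine le_antisymm (sup_le ((Subgroup.closure_le _).2 (Set.singleton_subset_iff.2 hwN)) inf_le_right) ?_
    intro n hn
    rcases (hN n).1 hn with ⟨h1, h2'⟩ | ⟨h1, h2'⟩
    · exact Subgroup.mem_sup_right ⟨(hB n).2 h1, hn⟩
    · have hwn : w⁻¹ * n ∈ B ⊓ N :=
        ⟨(hB _).2 (by rw [mul_smul, h1, inv_smul_eq_iff, hwx]), (mul_mem (inv_mem hwN) hn : w⁻¹ * n ∈ N)⟩
      have := mul_mem (Subgroup.mem_sup_left (T := B ⊓ N) (Subgroup.subset_closure (Set.mem_singleton w)))
        (Subgroup.mem_sup_right (S := Subgroup.closure {w}) hwn)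
      rwa [mul_inv_cancel_left] at this
  refine ⟨{
    B := B
    N := N
    S := {w}
    sup_eq_top := eq_top_iff.2 fun g _ => ?_
    conj_mem := ?_
    subset := Set.singleton_subset_iff.2 hwN
    sq_mem := fun s hs => by rw [Set.mem_singleton_iff.1 hs]; exact hww.1
    inj := fun s hs s' hs' _ => by rw [Set.mem_singleton_iff.1 hs, Set.mem_singleton_iff.1 hs']
    closure_sup := hclo
    mul_mem_union := ?_
    conj_ne := ?_ }, rfl, rfl, by simp [Cfsg.BNPair.rank]⟩
  · by_cases hg : g ∈ B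
    · exact Subgroup.mem_sup_left hg
    · obtain ⟨b, hb, b', hb', rfl⟩ := hdec g hg
      exact mul_mem (mul_mem (Subgroup.mem_sup_left hb) (Subgroup.mem_sup_right hwN)) (Subgroup.mem_sup_left hb')
  · rintro n hn t ⟨htB, htN⟩
    refine (hB _).2 ?_
    have ht1 := (hB t).1 htB
    have ht2 : t • y = y := by
      rcases (hN t).1 htN with h | h
      · exact h.2
      · exact absurd (ht1.symm.trans h.1) hxy
    have hinv : n⁻¹ • x = x ∨ n⁻¹ • x = y := by
      rcases (hN n⁻¹).1 (inv_mem hn) with h | h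
      · exact Or.inl h.1
      · exact Or.inr h.1
    rcases hinv with h | h
    · rw [mul_smul, mul_smul, h, ht1]; exact (inv_smul_eq_iff.1 h).symm
    · rw [mul_smul, mul_smul, h, ht2]; exact (inv_smul_eq_iff.1 h).symm
  · rintro s hs n hn b hb
    rw [Set.mem_singleton_iff.1 hs]
    -- one of the two double cosets is `B`, the other its complement
    have key : ∀ m ∈ N, ∀ g : G, (g ∈ B ↔ m ∈ B) → g ∈ DoubleCoset.doubleCoset m (B : Set G) B := by
      intro m _ g hgm
      rw [DoubleCoset.mem_doubleCoset]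
      by_cases hm : m ∈ B
      · exact ⟨g * m⁻¹, mul_mem (hgm.2 hm) (inv_mem hm), 1, one_mem _, by group⟩
      · obtain ⟨c, hc, c', hc', rfl⟩ := hdec g (fun h => hm (hgm.1 h))
        obtain ⟨d, hd, d', hd', rfl⟩ := hdec m hm
        exact ⟨c * d⁻¹, mul_mem hc (inv_mem hd), d'⁻¹ * c', mul_mem (inv_mem hd') hc', by group⟩
    have hflip : w * n ∈ B ↔ n ∉ B := by
      rw [hB, hB, mul_smul]
      rcases (hN n).1 hn with h | h
      · rw [h.1, hwx]; exact iff_of_false hxy.symm (not_not_intro rfl)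
      · rw [h.1, hwy]; exact iff_of_true rfl (fun e => hxy e.symm)
    by_cases hg : (w * b * n ∈ B ↔ n ∈ B)
    · exact Or.inr (key n hn _ hg)
    · exact Or.inl (key (w * n) (mul_mem hwN hn) _ (by tauto))
  · intro s hs he
    rw [Set.mem_singleton_iff.1 hs] at he
    obtain ⟨b, hbx, hby⟩ := h2 hxy hxz
    have h : w * b * w ∈ (B : Set G) := he ▸ ⟨b, (hB b).2 hbx, rfl⟩
    have h' := (hB _).1 h
    rw [mul_smul, mul_smul, hwx, hby] at h'
    exact hyz ((smul_left_cancel_iff w).1 (hwy.trans h'.symm))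

end CfsgLib.BNPair
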